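import Cfsg.Agent.Chev.Rules
import Cfsg.Agent.ChevGrp.Steinberg
import Cfsg.Agent.ChevGrp.Unimodular
import Cfsg.Agent.ChevGrp.FieldAut
import Cfsg.Agent.AutPSL.FieldCard
import Cfsg.Prelude.Def_ChevAutomorphisms

/-!
# Fixed points of field automorphisms

When the Cartan matrix is unimodular, the fixed points of a field automorphism in the Chevalley
group form the group over the fixed field.
-/

set_option autoImplicit false

namespace Cfsg.Agent.Chev.FieldFix

open Cfsg.Lie Cfsg.Agent.ChevGrp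

variable {D : ChevalleyDatum} {F E : Type*} [Field F] [Field E] {len : ℕ → ℕ}

theorem map_xGL (hF : Rules D F) (hE : Rules D E) (f : F →+* E) (r : ℕ) (t : F) :
    Matrix.GeneralLinearGroup.map (n := D.Idx) f (xGL D F r t) = xGL D E r (f t) := by
  refine Units.ext ?_
  rw [val_xGL hE, ← x_map D f, ← val_xGL hF]
  rfl

theorem map_nEl (hF : Rules D F) (hE : Rules D E) (f : F →+* E) (r : ℕ) (t : F) :
    Matrix.GeneralLinearGroup.map (n := D.Idx) f ((glSys hF).nEl r t) = (glSys hE).nEl r (f t) := by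
  simp [Sys.nEl, glSys, map_xGL hF hE]

theorem map_hEl (hF : Rules D F) (hE : Rules D E) (f : F →+* E) (r : ℕ) (t : F) :
    Matrix.GeneralLinearGroup.map (n := D.Idx) f ((glSys hF).hEl r t) = (glSys hE).hEl r (f t) := by
  simp [Sys.hEl, map_nEl hF hE]

theorem map_nW (hF : Rules D F) (hE : Rules D E) (f : F →+* E) (w : List (Fin D.rank)) :
    Matrix.GeneralLinearGroup.map (n := D.Idx) f ((glSys hF).nW w) = (glSys hE).nW w := by
  induction w with
  | nil => simp [Sys.nW_nil]
  | cons i w ih => simp [Sys.nW_cons, Sys.nI, map_nEl hF hE, ih]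

theorem map_tau (hF : Rules D F) (hE : Rules D E) (hR : RootTable D len) (f : F →+* E)
    (c : Fin D.rank → Fˣ) :
    Matrix.GeneralLinearGroup.map (n := D.Idx) f
        ((glSys hF).tau hF hR (glSys_HMul hF hR) c) =
      (glSys hE).tau hE hR (glSys_HMul hE hR) fun i => Units.map f.toMonoidHom (c i) := by
  induction c using Pi.mulSingle_induction with
  | one =>
    rw [map_one, map_one, show (fun i => Units.map f.toMonoidHom ((1 : Fin D.rank → Fˣ) i)) = 1 from
      funext fun i => map_one _, map_one]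
  | mul a b ha hb =>
    rw [map_mul, map_mul, ha, hb, ← map_mul]
    congr 1
    funext i
    simp
  | mulSingle i u =>
    have e : (fun j => Units.map f.toMonoidHom ((Pi.mulSingle i u : Fin D.rank → Fˣ) j)) =
        Pi.mulSingle i (Units.map f.toMonoidHom u) := funext fun j => by
      by_cases h : j = i
      · subst h; simp
      · simp [Pi.mulSingle_eq_of_ne h]
    rw [e, Sys.tau, Sys.tau, MonoidHom.noncommPiCoprod_mulSingle,
      MonoidHom.noncommPiCoprod_mulSingle]
    exact map_hEl hF hE f _ _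

theorem rootKer_eq_bot
    (hU : ∃ B : Fin D.rank → Fin D.rank → ℤ, ∀ i j : Fin D.rank,
      ∑ k : Fin D.rank, D.cartan j (D.simple k) * B k i = if j = i then 1 else 0) :
    rootKer D F = ⊥ := by
  obtain ⟨B, hB⟩ := hU
  rw [eq_bot_iff]
  intro c hc
  rw [Subgroup.mem_bot]
  funext i
  have hsum : ∀ (x : Fˣ) (f : Fin D.rank → ℤ) (s : Finset (Fin D.rank)),
      x ^ (∑ k ∈ s, f k) = ∏ k ∈ s, x ^ f k := fun x f s => by
    induction s using Finset.induction_on with
    | empty => simp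
    | insert a s ha ih => rw [Finset.sum_insert ha, Finset.prod_insert ha, zpow_add, ih]
  calc c i = ∏ j : Fin D.rank, c j ^ (∑ k : Fin D.rank, D.cartan j (D.simple k) * B k i) := by
        simp [hB]
    _ = ∏ k : Fin D.rank, (∏ j : Fin D.rank, c j ^ D.cartan j (D.simple k)) ^ B k i := by
        simp_rw [hsum]
        rw [Finset.prod_comm]
        refine Finset.prod_congr rfl fun k _ => ?_
        rw [← Finset.prod_zpow]
        exact Finset.prod_congr rfl fun j _ => zpow_mul _ _ _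
    _ = 1 := by simp [show ∀ k : Fin D.rank, ∏ j : Fin D.rank, c j ^ D.cartan j (D.simple k) = 1
        from hc]

/-- An element of the group over `F` fixed by `σ` comes from the group over the fixed field. -/
theorem fixed_mem_map (hF : Rules D F) (hE : Rules D E) (hR : RootTable D len)
    (hU : ∃ B : Fin D.rank → Fin D.rank → ℤ, ∀ i j : Fin D.rank,
      ∑ k : Fin D.rank, D.cartan j (D.simple k) * B k i = if j = i then 1 else 0)
    (σ : F →+* F) (f : E →+* F) (hf : ∀ a, σ a = a → ∃ b, f b = a)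
    {g : GL D.Idx F} (hg : g ∈ D.group F)
    (hfix : Matrix.GeneralLinearGroup.map (n := D.Idx) σ g = g) :
    g ∈ (D.group E).map (Matrix.GeneralLinearGroup.map (n := D.Idx) f) := by
  let M := (D.group E).map (Matrix.GeneralLinearGroup.map (n := D.Idx) f)
  let S := glSys hF
  let μ : GL D.Idx F →* GL D.Idx F := Matrix.GeneralLinearGroup.map (n := D.Idx) σ
  have hEG := group_eq hE (D := D) (F := E)
  have hx : ∀ r < D.nroots, ∀ b : E, xGL D F r (f b) ∈ M := fun r hr b =>
    ⟨xGL D E r b, hEG ▸ (Subgroup.subset_closure ⟨r, hr, b, rfl⟩ :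
      (glSys hE).x r b ∈ (glSys hE).Gbar), map_xGL hE hF f r b⟩
  have hnW : ∀ w, S.nW w ∈ M := by
    intro w
    induction w with
    | nil => rw [S.nW_nil]; exact one_mem _
    | cons i w ih =>
      rw [S.nW_cons]
      refine mul_mem ?_ ih
      rw [Sys.nI, Sys.nEl]
      have h1 := hx _ (hR.simple_lt i i.2) 1
      have h2 := hx _ (hR.neg_lt _ (hR.simple_lt i i.2)) (-1)
      rw [map_neg, map_one] at h2
      rw [map_one] at h1
      rw [inv_one]
      exact mul_mem (mul_mem h1 h2) h1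
  -- the images of the subgroups
  have hUS : ∀ T : Set ℕ, ∀ u ∈ S.US T, μ u ∈ S.US T := by
    intro T u hu
    have hle : S.US T ≤ (S.US T).comap μ := by
      conv_lhs => rw [Sys.US]
      rw [Subgroup.closure_le]
      rintro _ ⟨r, hr, t, rfl⟩
      show μ (xGL D F r t) ∈ S.US T
      rw [show μ (xGL D F r t) = xGL D F r (σ t) from map_xGL hF hF σ r t]
      exact S.x_mem_US hr _
    exact hle hu
  have hH : ∀ h ∈ S.Hbar, μ h ∈ S.Hbar := by
    intro h hh
    rw [← S.tau_range hF hR (glSys_HMul hF hR)] at hh ⊢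
    obtain ⟨c, rfl⟩ := hh
    exact ⟨_, (map_tau hF hF hR σ c).symm⟩
  have hU' : ∀ u ∈ S.Ubar, μ u = u → u ∈ M := by
    intro u hu hfu
    obtain ⟨L, hL⟩ := hR.posSet_closed.exists_enum
    obtain ⟨t, rfl⟩ := S.exists_coef hR hR.posSet_closed hL hu
    have hP : ∀ L' : List ℕ, μ (S.P L' t) = S.P L' fun r => σ (t r) := by
      intro L'
      induction L' with
      | nil => simp [Sys.P_nil]
      | cons r L' ih =>
        rw [S.P_cons, S.P_cons, map_mul, ih]
        congr 1
        exact map_xGL hF hF σ r (t r)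
    rw [hP] at hfu
    have ht := S.coef_unique hR hR.posSet_closed hL (congrArg S.θ hfu)
    refine Subgroup.list_prod_mem _ fun y hy => ?_
    obtain ⟨r, hr, rfl⟩ := List.mem_map.1 hy
    obtain ⟨b, hb⟩ := hf (t r) (ht r ((hL.2 r).1 hr))
    rw [← hb]
    exact hx r ((hL.2 r).1 hr).1 b
  have hgG : g ∈ S.Gbar := group_eq hF ▸ hg
  obtain ⟨b, hb, w, -, v, hv, rfl⟩ := S.mem_NF hF hR hgG
  obtain ⟨u, hu, h, hh, rfl⟩ := (S.mem_Bbar hF hR).1 hb
  have hn : μ (S.nW w) = S.nW w := map_nW hF hF σ w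
  have e : μ u * μ h * S.nW w * μ v = u * h * S.nW w * v := by
    nth_rw 1 [← hn]
    rw [← map_mul, ← map_mul, ← map_mul]
    exact hfix
  have hb' : μ u * μ h ∈ S.Bbar :=
    mul_mem (S.Ubar_le_Bbar (hUS _ u hu)) (S.Hbar_le_Bbar (hH h hh))
  obtain ⟨e1, e2⟩ := (S.bruhat_unique hF hR hb' hb (hUS _ v hv) hv e).2 rfl
  obtain ⟨e3, e4⟩ := S.Bbar_decomp_unique hF hR (hUS _ u hu) hu (hH h hh) hh e1
  refine mul_mem (mul_mem (mul_mem (hU' u hu e3) ?_) (hnW w))
    (hU' v (S.US_mono (fun r hr => hr.1) hv) e2)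
  rw [← S.tau_range hF hR (glSys_HMul hF hR)] at hh
  obtain ⟨c, rfl⟩ := hh
  have e5 : μ (S.tau hF hR (glSys_HMul hF hR) c) = _ := map_tau hF hF hR σ c
  rw [e5] at e4
  have e6 : (fun i => Units.map σ.toMonoidHom (c i)) = c := by
    have h1 : S.θ (S.tau hF hR (glSys_HMul hF hR)
        ((fun i => Units.map σ.toMonoidHom (c i)) * c⁻¹)) = 1 := by
      rw [map_mul (S.tau hF hR _), map_inv, e4, mul_inv_cancel, map_one]
    rw [S.θ_tau_eq_one_iff hF hR, rootKer_eq_bot hU, Subgroup.mem_bot, mul_inv_eq_one] at h1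
    exact h1
  have hc : ∀ i, ∃ d : Eˣ, Units.map f.toMonoidHom d = c i := fun i => by
    have h1 := congrArg Units.val (congrFun e6 i)
    obtain ⟨d, hd⟩ := hf (c i : F) h1
    have hd0 : d ≠ 0 := fun h0 => (c i).ne_zero (by rw [← hd, h0, map_zero])
    exact ⟨Units.mk0 d hd0, Units.ext hd⟩
  choose d hd using hc
  refine ⟨(glSys hE).tau hE hR (glSys_HMul hE hR) d, ?_, ?_⟩
  · have hle : (glSys hE).Hbar ≤ D.group E := by
      rw [hEG, (glSys hE).Gbar_eq hR hE]
      exact le_sup_of_le_left (glSys hE).Hbar_le_Bbar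
    exact hle ((glSys hE).tau_range hE hR (glSys_HMul hE hR) ▸ ⟨d, rfl⟩)
  · rw [map_tau hE hF hR f, show (fun i => Units.map f.toMonoidHom (d i)) = c from funext hd]

theorem pow_map (σ : F ≃+* F) (φ : MulAut ↥(D.group F)) (h : φ = groupEquiv D σ) (k : ℕ)
    (g : ↥(D.group F)) : (φ ^ k) g = groupEquiv D (σ ^ k) g := by
  induction k generalizing g with
  | zero =>
    refine Subtype.ext (Units.ext ?_)
    rw [pow_zero, pow_zero, MulAut.one_apply, groupEquiv_val]
    ext a b
    simp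
  | succ k ih =>
    rw [pow_succ, MulAut.mul_apply, ih, h]
    refine Subtype.ext (Units.ext ?_)
    rw [groupEquiv_val, groupEquiv_val, groupEquiv_val, Matrix.map_map, pow_succ]
    rfl

/-- The fixed points of a field automorphism of prime order. -/
theorem fixed_points (hall : ∀ (K : Type) [Field K], Rules D K) (hF : Rules D F)
    (hxinj : ∀ r < D.nroots, ∀ t u : F, D.x F r t = D.x F r u → t = u)
    (hU : ∃ B : Fin D.rank → Fin D.rank → ℤ, ∀ i j : Fin D.rank,
      ∑ k : Fin D.rank, D.cartan j (D.simple k) * B k i = if j = i then 1 else 0)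
    [Fintype F] (φ : MulAut ↥(D.group F)) (hφ : D.IsFieldAut φ) (r : ℕ) (ho : orderOf φ = r) :
    ∃ (F₀ : Type) (_ : Field F₀) (_ : Fintype F₀), Fintype.card F = Fintype.card F₀ ^ r ∧
      Nonempty (↥((MulEquiv.toMonoidHom φ).eqLocus (MonoidHom.id ↥(D.group F))) ≃*
        ↥(D.group F₀)) := by
  classical
  obtain ⟨len, hR⟩ := hF.root
  obtain ⟨σ, hσ⟩ := hφ
  have hle : D.group F ≤ ((MonoidHom.eqLocus φ.toMonoidHom (groupEquiv D σ).toMonoidHom).map
      (D.group F).subtype) := by
    refine (Subgroup.closure_le _).2 ?_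
    rintro x ⟨q, t, hx⟩
    have hmem : x ∈ D.group F := Subgroup.subset_closure ⟨q, t, hx⟩
    have hx' : ((x : GL D.Idx F) : Matrix D.Idx D.Idx F) = D.x F q t := by
      rw [hx, ChevalleyDatum.x, dif_pos q.2]
    refine ⟨⟨x, hmem⟩, Subtype.ext (Units.ext ?_), rfl⟩
    show ((φ ⟨x, hmem⟩ : GL D.Idx F) : Matrix D.Idx D.Idx F) = _
    rw [hσ ⟨x, hmem⟩ q t q.2 hx']
    refine Eq.trans ?_ (groupEquiv_val D σ ⟨x, hmem⟩).symm
    show _ = (x : Matrix D.Idx D.Idx F).map σ
    rw [hx']
    exact (x_map D (σ : F →+* F) q t).symm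
  have hgen : φ = groupEquiv D σ := by
    refine MulEquiv.ext fun g => ?_
    obtain ⟨z, hz, e⟩ := hle g.2
    obtain rfl : z = g := Subtype.ext e
    exact hz
  have hord : orderOf σ = r := by
    rw [← ho, orderOf_eq_orderOf_iff]
    intro k
    constructor
    · intro h
      refine MulEquiv.ext fun g => ?_
      rw [pow_map σ φ hgen, h, MulAut.one_apply]
      refine Subtype.ext (Units.ext ?_)
      rw [groupEquiv_val]
      ext a b
      simp
    · intro h
      refine RingEquiv.ext fun t => ?_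
      have hp := hR.simple_lt 0 (Nat.lt_of_lt_of_le Nat.two_pos hR.two_le_rank)
      have hmem : xGL D F (D.simple 0) t ∈ D.group F := by
        rw [group_eq hF]; exact Subgroup.subset_closure ⟨_, hp, t, rfl⟩
      have e := congrArg (fun g : ↥(D.group F) => ((g : GL D.Idx F) : Matrix D.Idx D.Idx F))
        (pow_map σ φ hgen k ⟨_, hmem⟩)
      rw [h, MulAut.one_apply, groupEquiv_val] at e
      dsimp only at e
      rw [val_xGL hF] at e
      exact (hxinj _ hp _ _ (e.trans (x_map D ((σ ^ k : F ≃+* F) : F →+* F) _ t))).symm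
  haveI : Fintype ↥(Cfsg.Agent.AutPSL.fixedField σ) := Fintype.ofFinite _
  let n := Fintype.card ↥(Cfsg.Agent.AutPSL.fixedField σ)
  let e₀ : Fin n ≃ ↥(Cfsg.Agent.AutPSL.fixedField σ) := (Fintype.equivFin _).symm
  letI : Field (Fin n) := e₀.field
  have hcard : Nat.card (Fin n) = Nat.card ↥(Cfsg.Agent.AutPSL.fixedField σ) := Nat.card_congr e₀
  obtain ⟨f, hf⟩ := Cfsg.Agent.AutPSL.exists_embedding σ (Fin n) hcard
  refine ⟨Fin n, inferInstance, inferInstance, ?_, ?_⟩
  · have := Cfsg.Agent.AutPSL.card_fixedField_pow σ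
    rw [← hcard, hord, Nat.card_eq_fintype_card, Nat.card_eq_fintype_card] at this
    exact this
  · have hE : Rules D (Fin n) := hall _
    let μ : ↥(D.group (Fin n)) →* GL D.Idx F :=
      (Matrix.GeneralLinearGroup.map (n := D.Idx) f).comp (D.group (Fin n)).subtype
    have hμ : Function.Injective μ := (glMap_injective D f).comp Subtype.val_injective
    have hmemG : ∀ y, μ y ∈ D.group F := fun y => map_group_le D f ⟨y, y.2, rfl⟩
    have hfix : ∀ y, (⟨μ y, hmemG y⟩ : ↥(D.group F)) ∈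
        (MulEquiv.toMonoidHom φ).eqLocus (MonoidHom.id ↥(D.group F)) := by
      intro y
      show φ _ = _
      rw [hgen]
      refine Subtype.ext (Units.ext ?_)
      rw [groupEquiv_val]
      ext a b
      exact (hf _).2 ⟨_, rfl⟩
    let ν : ↥(D.group (Fin n)) →*
        ↥((MulEquiv.toMonoidHom φ).eqLocus (MonoidHom.id ↥(D.group F))) :=
      (μ.codRestrict _ hmemG).codRestrict _ hfix
    refine ⟨(MulEquiv.ofBijective ν ⟨fun a b h => hμ ?_, fun z => ?_⟩).symm⟩
    · exact congrArg (fun z => ((z : ↥(D.group F)) : GL D.Idx F)) (congrArg Subtype.val h)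
    · obtain ⟨⟨g, hg⟩, hz⟩ := z
      have hz' : φ ⟨g, hg⟩ = ⟨g, hg⟩ := hz
      rw [hgen] at hz'
      have hfixg : Matrix.GeneralLinearGroup.map (n := D.Idx) (σ : F →+* F) g = g :=
        Units.ext (congrArg (fun y : ↥(D.group F) => ((y : GL D.Idx F) : Matrix D.Idx D.Idx F)) hz')
      obtain ⟨y, hy, e⟩ := fixed_mem_map hF hE hR hU (σ : F →+* F) f
        (fun a ha => (hf a).1 ha) hg hfixg
      exact ⟨⟨y, hy⟩, Subtype.ext (Subtype.ext e)⟩

theorem fixed_points_of_mem {D : ChevalleyDatum}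
    (hD : D ∈ [chevG2, chevB2, chevD4, chevF4, chevE6, chevE7, chevE8])
    (hU : ∃ B : Fin D.rank → Fin D.rank → ℤ, ∀ i j : Fin D.rank,
      ∑ k : Fin D.rank, D.cartan j (D.simple k) * B k i = if j = i then 1 else 0)
    {F : Type*} [Field F] [Fintype F] (φ : MulAut ↥(D.group F)) (hφ : D.IsFieldAut φ) (r : ℕ)
    (ho : orderOf φ = r) :
    ∃ (F₀ : Type) (_ : Field F₀) (_ : Fintype F₀), Fintype.card F = Fintype.card F₀ ^ r ∧
      Nonempty (↥((MulEquiv.toMonoidHom φ).eqLocus (MonoidHom.id ↥(D.group F))) ≃*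
        ↥(D.group F₀)) := by
  obtain ⟨C, hV⟩ := Cfsg.Agent.Chev.exists_valid hD
  have hF : Rules D F := Cfsg.Agent.Chev.rules_of_mem F hD
  refine fixed_points (fun K _ => Cfsg.Agent.Chev.rules_of_mem K hD) hF (fun q hq t u e => ?_)
    hU φ hφ r ho
  have h2 : D.x F q (t + -u) = 1 := by
    rw [← hF.x_add q hq, e, hF.x_add q hq, add_neg_cancel, hF.x_zero q hq]
  have h3 := (hV.x_eq_one_iff hq).1 h2
  rwa [← sub_eq_add_neg, sub_eq_zero] at h3

end Cfsg.Agent.Chev.FieldFix
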