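import Cfsg.Agent.Chev.Diagonal
import Cfsg.Agent.Chev.Main

/-! # Smith normal forms of the seven Cartan matrices -/

set_option autoImplicit false

namespace Cfsg.Agent.Chev

open Cfsg.Lie

/-- Smith normal form of the Cartan matrix of type G2. -/
def snfG2 : Snf chevG2 where
  d := ![1, 1]
  U := !![-1, 0; 2, 1]
  U' := !![-1, 0; 2, 1]
  W := !![-2, 1; 1, 0]
  W' := !![0, 1; 1, 2]
  hU := by decide +kernel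
  hW := by decide +kernel
  hW' := by decide +kernel
  heq := by decide +kernel

theorem snfG2_prod (m : ℕ) :
    ∏ j, Nat.gcd m (snfG2.d j) = 1 := by
  show ∏ j : Fin 2, Nat.gcd m (![1, 1] j) = _
  simp [Fin.prod_univ_two, Nat.gcd_comm m, pow_two]

/-- Smith normal form of the Cartan matrix of type B2. -/
def snfB2 : Snf chevB2 where
  d := ![1, 2]
  U := !![-1, 0; 2, 1]
  U' := !![-1, 0; 2, 1]
  W := !![-2, 1; 1, 0]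
  W' := !![0, 1; 1, 2]
  hU := by decide +kernel
  hW := by decide +kernel
  hW' := by decide +kernel
  heq := by decide +kernel

theorem snfB2_prod (m : ℕ) :
    ∏ j, Nat.gcd m (snfB2.d j) = Nat.gcd 2 m := by
  show ∏ j : Fin 2, Nat.gcd m (![1, 2] j) = _
  simp [Fin.prod_univ_two, Nat.gcd_comm m, pow_two]

/-- Smith normal form of the Cartan matrix of type D4. -/
def snfD4 : Snf chevD4 where
  d := ![1, 1, 2, 2]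
  U := !![-1, 0, 0, 0; -2, -1, 0, 0; -3, -2, -1, 0; 2, 2, 1, 1]
  U' := !![-1, 0, 0, 0; 2, -1, 0, 0; -1, 2, -1, 0; -1, 0, 1, 1]
  W := !![-2, 1, 0, 0; -3, 0, 1, 1; -2, 0, 0, 1; 1, 0, 0, 0]
  W' := !![0, 0, 0, 1; 1, 0, 0, 2; 0, 1, -1, 1; 0, 0, 1, 2]
  hU := by decide +kernel
  hW := by decide +kernel
  hW' := by decide +kernel
  heq := by decide +kernel

theorem snfD4_prod (m : ℕ) :
    ∏ j, Nat.gcd m (snfD4.d j) = Nat.gcd 2 m ^ 2 := by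
  show ∏ j : Fin 4, Nat.gcd m (![1, 1, 2, 2] j) = _
  simp [Fin.prod_univ_four, Nat.gcd_comm m, pow_two]

/-- Smith normal form of the Cartan matrix of type F4. -/
def snfF4 : Snf chevF4 where
  d := ![1, 1, 1, 1]
  U := !![-1, 0, 0, 0; -2, -1, 0, 0; -2, -2, -1, 0; 2, 3, 2, 1]
  U' := !![-1, 0, 0, 0; 2, -1, 0, 0; -2, 2, -1, 0; 0, -1, 2, 1]
  W := !![-2, 1, 0, 0; -3, 0, 1, 0; -2, 0, 0, 1; 1, 0, 0, 0]
  W' := !![0, 0, 0, 1; 1, 0, 0, 2; 0, 1, 0, 3; 0, 0, 1, 2]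
  hU := by decide +kernel
  hW := by decide +kernel
  hW' := by decide +kernel
  heq := by decide +kernel

theorem snfF4_prod (m : ℕ) :
    ∏ j, Nat.gcd m (snfF4.d j) = 1 := by
  show ∏ j : Fin 4, Nat.gcd m (![1, 1, 1, 1] j) = _
  simp [Fin.prod_univ_four, Nat.gcd_comm m, pow_two]

/-- Smith normal form of the Cartan matrix of type E6. -/
def snfE6 : Snf chevE6 where
  d := ![1, 1, 1, 1, 1, 3]
  U := !![-1, 0, 0, 0, 0, 0; 0, -1, 0, 0, 0, 0; 1, -2, 0, -1, 0, 0; 2, -3, 0, -2, -1, 0; -2, 1, -1, 0, 0, 0; -5, 0, -4, -3, -2, -1]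
  U' := !![-1, 0, 0, 0, 0, 0; 0, -1, 0, 0, 0, 0; 2, -1, 0, 0, -1, 0; -1, 2, -1, 0, 0, 0; 0, -1, 2, -1, 0, 0; 0, 0, -1, 2, 4, -1]
  W := !![-2, 0, 1, 0, 0, 0; 0, -2, 0, 1, 0, 0; 2, -3, 0, 0, 1, 0; 4, -4, 0, 0, 0, 1; -3, 2, 0, 0, 0, 0; -2, 1, 0, 0, 0, 0]
  W' := !![0, 0, 0, 0, 1, -2; 0, 0, 0, 0, 2, -3; 1, 0, 0, 0, 2, -4; 0, 1, 0, 0, 4, -6; 0, 0, 1, 0, 4, -5; 0, 0, 0, 1, 4, -4]
  hU := by decide +kernel
  hW := by decide +kernel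
  hW' := by decide +kernel
  heq := by decide +kernel

theorem snfE6_prod (m : ℕ) :
    ∏ j, Nat.gcd m (snfE6.d j) = Nat.gcd 3 m := by
  show ∏ j : Fin 6, Nat.gcd m (![1, 1, 1, 1, 1, 3] j) = _
  simp [Fin.prod_univ_six, Nat.gcd_comm m, pow_two]

/-- Smith normal form of the Cartan matrix of type E7. -/
def snfE7 : Snf chevE7 where
  d := ![1, 1, 1, 1, 1, 1, 2]
  U := !![-1, 0, 0, 0, 0, 0, 0; 0, -1, 0, 0, 0, 0, 0; 1, -2, 0, -1, 0, 0, 0; 2, -3, 0, -2, -1, 0, 0; 3, -4, 0, -3, -2, -1, 0; -2, 1, -1, 0, 0, 0, 0; -4, -1, -4, -4, -3, -2, -1]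
  U' := !![-1, 0, 0, 0, 0, 0, 0; 0, -1, 0, 0, 0, 0, 0; 2, -1, 0, 0, 0, -1, 0; -1, 2, -1, 0, 0, 0, 0; 0, -1, 2, -1, 0, 0, 0; 0, 0, -1, 2, -1, 0, 0; 0, 0, 0, -1, 2, 4, -1]
  W := !![-2, 0, 1, 0, 0, 0, 0; 0, -2, 0, 1, 0, 0, 0; 2, -3, 0, 0, 1, 0, 0; 4, -4, 0, 0, 0, 1, 0; 6, -5, 0, 0, 0, 0, 1; -3, 2, 0, 0, 0, 0, 0; -2, 1, 0, 0, 0, 0, 0]
  W' := !![0, 0, 0, 0, 0, 1, -2; 0, 0, 0, 0, 0, 2, -3; 1, 0, 0, 0, 0, 2, -4; 0, 1, 0, 0, 0, 4, -6; 0, 0, 1, 0, 0, 4, -5; 0, 0, 0, 1, 0, 4, -4; 0, 0, 0, 0, 1, 4, -3]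
  hU := by decide +kernel
  hW := by decide +kernel
  hW' := by decide +kernel
  heq := by decide +kernel

theorem snfE7_prod (m : ℕ) :
    ∏ j, Nat.gcd m (snfE7.d j) = Nat.gcd 2 m := by
  show ∏ j : Fin 7, Nat.gcd m (![1, 1, 1, 1, 1, 1, 2] j) = _
  simp [Fin.prod_univ_seven, Nat.gcd_comm m, pow_two]

/-- Smith normal form of the Cartan matrix of type E8. -/
def snfE8 : Snf chevE8 where
  d := ![1, 1, 1, 1, 1, 1, 1, 1]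
  U := !![-1, 0, 0, 0, 0, 0, 0, 0; 0, -1, 0, 0, 0, 0, 0, 0; 1, -2, 0, -1, 0, 0, 0, 0; 2, -3, 0, -2, -1, 0, 0, 0; 3, -4, 0, -3, -2, -1, 0, 0; 4, -5, 0, -4, -3, -2, -1, 0; -2, 1, -1, 0, 0, 0, 0, 0; -3, -2, -4, -5, -4, -3, -2, -1]
  U' := !![-1, 0, 0, 0, 0, 0, 0, 0; 0, -1, 0, 0, 0, 0, 0, 0; 2, -1, 0, 0, 0, 0, -1, 0; -1, 2, -1, 0, 0, 0, 0, 0; 0, -1, 2, -1, 0, 0, 0, 0; 0, 0, -1, 2, -1, 0, 0, 0; 0, 0, 0, -1, 2, -1, 0, 0; 0, 0, 0, 0, -1, 2, 4, -1]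
  W := !![-2, 0, 1, 0, 0, 0, 0, 0; 0, -2, 0, 1, 0, 0, 0, 0; 2, -3, 0, 0, 1, 0, 0, 0; 4, -4, 0, 0, 0, 1, 0, 0; 6, -5, 0, 0, 0, 0, 1, 0; 8, -6, 0, 0, 0, 0, 0, 1; -3, 2, 0, 0, 0, 0, 0, 0; -2, 1, 0, 0, 0, 0, 0, 0]
  W' := !![0, 0, 0, 0, 0, 0, 1, -2; 0, 0, 0, 0, 0, 0, 2, -3; 1, 0, 0, 0, 0, 0, 2, -4; 0, 1, 0, 0, 0, 0, 4, -6; 0, 0, 1, 0, 0, 0, 4, -5; 0, 0, 0, 1, 0, 0, 4, -4; 0, 0, 0, 0, 1, 0, 4, -3; 0, 0, 0, 0, 0, 1, 4, -2]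
  hU := by decide +kernel
  hW := by decide +kernel
  hW' := by decide +kernel
  heq := by decide +kernel

theorem snfE8_prod (m : ℕ) :
    ∏ j, Nat.gcd m (snfE8.d j) = 1 := by
  show ∏ j : Fin 8, Nat.gcd m (![1, 1, 1, 1, 1, 1, 1, 1] j) = _
  simp [Fin.prod_univ_eight, Nat.gcd_comm m, pow_two]

end Cfsg.Agent.Chev
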