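import Cfsg.Agent.Chev.CertE8
import Cfsg.Agent.Chev.CheckSplit

/-! # Kernel check of the tables of E8 -/

set_option autoImplicit false

namespace Cfsg.Agent.Chev

open Cfsg.Lie

set_option maxHeartbeats 0 in
set_option maxRecDepth 100000 in
theorem e8_neg_ok : negOK chevE8 certE8 = true := by decide +kernel

set_option maxHeartbeats 0 in
set_option maxRecDepth 100000 in
theorem e8_tab_0 : tabAt chevE8 certE8 0 = true := by decide +kernel

set_option maxHeartbeats 0 in
set_option maxRecDepth 100000 in
theorem e8_tab_1 : tabAt chevE8 certE8 1 = true := by decide +kernel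

set_option maxHeartbeats 0 in
set_option maxRecDepth 100000 in
theorem e8_tab_2 : tabAt chevE8 certE8 2 = true := by decide +kernel

set_option maxHeartbeats 0 in
set_option maxRecDepth 100000 in
theorem e8_tab_3 : tabAt chevE8 certE8 3 = true := by decide +kernel

set_option maxHeartbeats 0 in
set_option maxRecDepth 100000 in
theorem e8_tab_4 : tabAt chevE8 certE8 4 = true := by decide +kernel

set_option maxHeartbeats 0 in
set_option maxRecDepth 100000 in
theorem e8_tab_5 : tabAt chevE8 certE8 5 = true := by decide +kernel

set_option maxHeartbeats 0 in
set_option maxRecDepth 100000 in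
theorem e8_tab_6 : tabAt chevE8 certE8 6 = true := by decide +kernel

set_option maxHeartbeats 0 in
set_option maxRecDepth 100000 in
theorem e8_tab_7 : tabAt chevE8 certE8 7 = true := by decide +kernel

theorem e8_tab_ok : tabOK chevE8 certE8 = true :=
  (tabOK_eq chevE8 certE8).trans (all_range_eight e8_tab_0 e8_tab_1 e8_tab_2 e8_tab_3 e8_tab_4 e8_tab_5 e8_tab_6 e8_tab_7)

set_option maxHeartbeats 0 in
set_option maxRecDepth 100000 in
theorem e8_basic_0 : basicAt chevE8 certE8 0 = true := by decide +kernel

set_option maxHeartbeats 0 in
set_option maxRecDepth 100000 in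
theorem e8_basic_1 : basicAt chevE8 certE8 1 = true := by decide +kernel

set_option maxHeartbeats 0 in
set_option maxRecDepth 100000 in
theorem e8_basic_2 : basicAt chevE8 certE8 2 = true := by decide +kernel

set_option maxHeartbeats 0 in
set_option maxRecDepth 100000 in
theorem e8_basic_3 : basicAt chevE8 certE8 3 = true := by decide +kernel

set_option maxHeartbeats 0 in
set_option maxRecDepth 100000 in
theorem e8_basic_4 : basicAt chevE8 certE8 4 = true := by decide +kernel

set_option maxHeartbeats 0 in
set_option maxRecDepth 100000 in
theorem e8_basic_5 : basicAt chevE8 certE8 5 = true := by decide +kernel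

set_option maxHeartbeats 0 in
set_option maxRecDepth 100000 in
theorem e8_basic_6 : basicAt chevE8 certE8 6 = true := by decide +kernel

set_option maxHeartbeats 0 in
set_option maxRecDepth 100000 in
theorem e8_basic_7 : basicAt chevE8 certE8 7 = true := by decide +kernel

theorem e8_basic_ok : basicOK chevE8 certE8 = true :=
  (basicOK_eq chevE8 certE8).trans (all_range_eight e8_basic_0 e8_basic_1 e8_basic_2 e8_basic_3 e8_basic_4 e8_basic_5 e8_basic_6 e8_basic_7)

set_option maxHeartbeats 0 in
set_option maxRecDepth 100000 in
theorem e8_rows_ok : rowsOK chevE8 certE8 = true := by decide +kernel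

set_option maxHeartbeats 0 in
set_option maxRecDepth 100000 in
theorem e8_tri_ok : triOK chevE8 = true := by decide +kernel

set_option maxHeartbeats 0 in
set_option maxRecDepth 100000 in
theorem e8_weight_0 : weightAt chevE8 certE8 0 = true := by decide +kernel

set_option maxHeartbeats 0 in
set_option maxRecDepth 100000 in
theorem e8_weight_1 : weightAt chevE8 certE8 1 = true := by decide +kernel

set_option maxHeartbeats 0 in
set_option maxRecDepth 100000 in
theorem e8_weight_2 : weightAt chevE8 certE8 2 = true := by decide +kernel

set_option maxHeartbeats 0 in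
set_option maxRecDepth 100000 in
theorem e8_weight_3 : weightAt chevE8 certE8 3 = true := by decide +kernel

set_option maxHeartbeats 0 in
set_option maxRecDepth 100000 in
theorem e8_weight_4 : weightAt chevE8 certE8 4 = true := by decide +kernel

set_option maxHeartbeats 0 in
set_option maxRecDepth 100000 in
theorem e8_weight_5 : weightAt chevE8 certE8 5 = true := by decide +kernel

set_option maxHeartbeats 0 in
set_option maxRecDepth 100000 in
theorem e8_weight_6 : weightAt chevE8 certE8 6 = true := by decide +kernel

set_option maxHeartbeats 0 in
set_option maxRecDepth 100000 in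
theorem e8_weight_7 : weightAt chevE8 certE8 7 = true := by decide +kernel

theorem e8_weight_ok : weightOK chevE8 certE8 = true :=
  (weightOK_eq chevE8 certE8).trans (all_range_eight e8_weight_0 e8_weight_1 e8_weight_2 e8_weight_3 e8_weight_4 e8_weight_5 e8_weight_6 e8_weight_7)

set_option maxHeartbeats 0 in
set_option maxRecDepth 100000 in
theorem e8_long_0 : longAt chevE8 certE8 0 = true := by decide +kernel

set_option maxHeartbeats 0 in
set_option maxRecDepth 100000 in
theorem e8_long_1 : longAt chevE8 certE8 1 = true := by decide +kernel

set_option maxHeartbeats 0 in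
set_option maxRecDepth 100000 in
theorem e8_long_2 : longAt chevE8 certE8 2 = true := by decide +kernel

set_option maxHeartbeats 0 in
set_option maxRecDepth 100000 in
theorem e8_long_3 : longAt chevE8 certE8 3 = true := by decide +kernel

set_option maxHeartbeats 0 in
set_option maxRecDepth 100000 in
theorem e8_long_4 : longAt chevE8 certE8 4 = true := by decide +kernel

set_option maxHeartbeats 0 in
set_option maxRecDepth 100000 in
theorem e8_long_5 : longAt chevE8 certE8 5 = true := by decide +kernel

set_option maxHeartbeats 0 in
set_option maxRecDepth 100000 in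
theorem e8_long_6 : longAt chevE8 certE8 6 = true := by decide +kernel

set_option maxHeartbeats 0 in
set_option maxRecDepth 100000 in
theorem e8_long_7 : longAt chevE8 certE8 7 = true := by decide +kernel

theorem e8_long_ok : longOK chevE8 certE8 = true :=
  (longOK_eq chevE8 certE8).trans (all_range_eight e8_long_0 e8_long_1 e8_long_2 e8_long_3 e8_long_4 e8_long_5 e8_long_6 e8_long_7)

set_option maxHeartbeats 0 in
set_option maxRecDepth 100000 in
theorem e8_desc_ok : descOK chevE8 certE8 = true := by decide +kernel

end Cfsg.Agent.Chev
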